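import Cfsg.Agent.H40.Ch.Data
import Cfsg.Agent.H776.CY.Congr
import Cfsg.Agent.H655.R2.Two

/-!
# S4829, Row2, `q` even: the row from the adjoint data of helper928 (helper61)

* `nd_emb` : a parametrised node of `Y` gives one of the adjoint group;
* `row2_data` : `H : Data cs h 2 T n X x D`, `Y` simple, a parametrised node fixed by the diagram symmetries: `Row2 Y`;
* `card_fx` : the fixed field of `x ↦ x ^ q` has at most `q` elements.
-/

set_option autoImplicit false
set_option linter.unusedSectionVars false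

namespace Cfsg.Agent.H61.R2

open Cfsg Cfsg.Agent.H148.GG Cfsg.Agent.H40.OC Cfsg.Agent.H928.Ad Cfsg.Agent.H770.CY

open CoxeterSystem Cfsg.Agent.ChevalleyStructure.CoxeterGeom Cfsg.Agent.Tits.Roots Cfsg.Agent.Tits.Core
  Cfsg.Agent.Nodes.Reps Cfsg.Agent.Nodes.BNOf Cfsg.Agent.Nodes.Bruhat Cfsg.Agent.Nodes.RGDLib
open Cfsg.Agent.Omega.EH3.Kf.Lev (CommGen)
open Cfsg.Agent.ChevalleyStructure.SL2Hom (up lo mem_closure_SL2)
open Cfsg.Agent.Nodes.RGDFoldSL (Fx mem_Fx)

universe u v

section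

variable {I W : Type*} {Y : Type u} [Fintype I] [DecidableEq I] [Group W] [Group Y] {M : CoxeterMatrix I}
  {cs : CoxeterSystem M W} {A : I → I → ℤ} {h : IsCartan M A} {T : Subgroup Y} {n : I → Y}
  {X : (I → ℤ) → Subgroup Y} {K : (I → ℤ) → Type v} [∀ z, Field (K z)] {x : ∀ z, K z → Y}

/-- the parametrised node of the adjoint group -/
theorem nd_emb {D : Subgroup (MulAut Y)} (H : Data cs h 2 T n X x D) {i : I} {L : Type*} [Field L]
    {ψ : (Matrix.SpecialLinearGroup (Fin 2) L) →* Y} (N : H619.Gow.Nd cs h T n X i ψ) :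
    H619.Gow.Nd cs h (Tad D) (fun i => emb D (n i)) (Xad X D) i ((emb D).comp ψ) where
  mem_X g := by
    rw [Xad_eq]
    constructor
    · rintro ⟨y, hy, rfl⟩
      obtain ⟨a, rfl⟩ := (N.mem_X y).1 hy
      exact ⟨a, rfl⟩
    · rintro ⟨a, rfl⟩
      exact ⟨_, (N.mem_X _).2 ⟨a, rfl⟩, rfl⟩
  w1 := congrArg (emb D) N.w1
  h1 d hd := H.tor _ (N.h1 d hd)
  inj_up a b hab := N.inj_up a b (H.inj hab)

/-- the orders of the root groups of the adjoint group -/
theorem card_Xad {D : Subgroup (MulAut Y)} (H : Data cs h 2 T n X x D) (z : I → ℤ) :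
    Nat.card (Xad X D z) = Nat.card (X z) := by
  rw [Xad_eq]
  exact (Nat.card_congr ((X z).equivMapOfInjective (emb D) H.inj).toEquiv).symm

/-- the order of the root group of a parametrised node -/
theorem card_nd {i : I} {L : Type*} [Field L] {ψ : (Matrix.SpecialLinearGroup (Fin 2) L) →* Y}
    (N : H619.Gow.Nd cs h T n X i ψ) : Nat.card (X (sr i)) = Nat.card L := by
  symm
  refine Nat.card_congr (Equiv.ofBijective (fun a => ⟨ψ (up a), (N.mem_X _).2 ⟨a, rfl⟩⟩) ⟨?_, ?_⟩)
  · intro a b hab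
    exact N.inj_up a b (congrArg Subtype.val hab)
  · rintro ⟨g, hg⟩
    obtain ⟨a, rfl⟩ := (N.mem_X g).1 hg
    exact ⟨a, rfl⟩

/-- **`Row2` for a group with adjoint data in characteristic two** -/
theorem row2_data [Finite W] [Finite Y] [IsSimpleGroup Y] {D : Subgroup (MulAut Y)} (H : Data cs h 2 T n X x D)
    (hC : CommGen cs h X) {φ : ↥(Gad D) → ↥(Gad D)} (hφ : H92.GG.Anti cs h (Tad D) (Xad X D) φ)
    {i : I} {L : Type*} [Field L] [Finite L] [CharP L 2] {ψ : (Matrix.SpecialLinearGroup (Fin 2) L) →* Y}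
    (N : H619.Gow.Nd cs h T n X i ψ)
    (hσ : ∀ σ : Equiv.Perm I, (∀ j k, M (σ j) (σ k) = M j k) →
      (∀ j, Nat.card (X (sr (σ j))) = Nat.card (X (sr j))) → σ i = i) : Row2 Y := by
  have : Fact (Nat.Prime 2) := ⟨Nat.prime_two⟩
  have A := H.adj
  have hfin : ∀ i : I, Finite (K (sr i)) := fun i =>
    Finite.of_injective _ (H.sys.inj _ (isRoot_sr cs h i))
  have R : RGD cs h 2 (Tad D) (fun i => emb D (n i)) (Xad X D) := A.rgd
  let P := H40.Ch.par A.sys A.full
  have hcomm : ∀ s ∈ Tad D, ∀ t ∈ Tad D, s * t = t * s := fun s hs t ht => A.comm s hs t ht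
  have hC' : CommGen cs h (Xad X D) := by
    have h1 : Xad X D = fun z => (X z).map (emb D) := funext fun z => Xad_eq X D z
    rw [h1]
    exact H969.TT.DichIso.map_commGen (emb D) hC
  have hN := lin_of_commGen R hC' P.adj
  have hT := faithful R A.gen hcomm A.cen P.adj
  have hUS : UU cs h (Xad X D) ≤ (emb D).range := by
    rw [← H.G1']
    exact RGD.Sup_mono fun x hx => hx.1
  have e : Y ≃* ↥(emb D).range := MonoidHom.ofInjective H.inj
  have hs : IsSimpleGroup ↥(emb D).range := e.symm.isSimpleGroup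
  refine H776.CY.Row2.congr e ?_
  exact H655.R2.row2_two R P.adj A.gen hT (H356.AQ.anti148 hφ) hN hUS (nd_emb H N) (fun σ _ h1 h2 _ =>
    hσ σ h1 fun j => by
      have h3 := h2 j
      rw [card_Xad H, card_Xad H] at h3
      exact h3)

end

/-! ### fixed fields -/

section

variable {K : Type*} [Field K] {φ : K →+* K} {q : ℕ}

theorem card_fx (hφ : ∀ x, φ x = x ^ q) (hq : 1 < q) : Nat.card (Fx φ 1) ≤ q := by
  classical
  have hf0 : (Polynomial.X ^ q - Polynomial.X : Polynomial K) ≠ 0 := FiniteField.X_pow_card_sub_X_ne_zero K hq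
  have hdeg : (Polynomial.X ^ q - Polynomial.X : Polynomial K).natDegree = q :=
    FiniteField.X_pow_card_sub_X_natDegree_eq K hq
  have h1 : Nat.card (Fx φ 1) ≤ Nat.card (Polynomial.X ^ q - Polynomial.X : Polynomial K).roots.toFinset := by
    refine Nat.card_le_card_of_injective (fun a => ⟨(a : K), ?_⟩) ?_
    · rw [Multiset.mem_toFinset, Polynomial.mem_roots hf0, Polynomial.IsRoot.def, Polynomial.eval_sub,
        Polynomial.eval_pow, Polynomial.eval_X, sub_eq_zero, ← hφ]
      exact mem_Fx.1 a.2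
    · intro a b hab
      exact Subtype.ext (Subtype.mk.inj hab)
  have h3 : Nat.card (Polynomial.X ^ q - Polynomial.X : Polynomial K).roots.toFinset =
      (Polynomial.X ^ q - Polynomial.X : Polynomial K).roots.toFinset.card := by
    rw [Nat.card_eq_fintype_card, Fintype.card_coe]
  rw [h3] at h1
  have h2 := Polynomial.card_roots' (Polynomial.X ^ q - Polynomial.X : Polynomial K)
  rw [hdeg] at h2
  exact h1.trans ((Multiset.toFinset_card_le _).trans h2)

theorem card_fx_top {k : ℕ} (h : ∀ t : K, φ^[k] t = t) : Nat.card (Fx φ k) = Nat.card K :=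
  Nat.card_congr (Equiv.ofBijective (fun a : Fx φ k => (a : K)) ⟨Subtype.coe_injective, fun t => ⟨⟨t, mem_Fx.2 (h t)⟩, rfl⟩⟩)

end

end Cfsg.Agent.H61.R2
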