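import Cfsg.Agent.H61.R2.Ad
import Cfsg.Agent.H928.Ad.TwRow
import Cfsg.Agent.H619.Gow.TwD4
import Cfsg.Agent.H934.PQR.TorTwE6

/-!
# S4829, Row2, `q` even: `²E₆(q)`, `³D₄(q)` (helper61)

* `row2_twE6`, `row2_twD4`; `slot_te6`, `slot_td4` : the slots of `H802/R2/Plug.lean`.
-/

set_option autoImplicit false
set_option linter.unusedSectionVars false

namespace Cfsg.Agent.H61.R2

open Cfsg Cfsg.Lie Cfsg.Agent.H770.CY Cfsg.Agent.H776.CY Cfsg.Agent.H928.Ad.TwRow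

open CoxeterSystem Cfsg.Agent.ChevalleyStructure Cfsg.Agent.ChevalleyStructure.CoxeterGeom Cfsg.Agent.Tits.Roots
  Cfsg.Agent.Tits.Core Cfsg.Agent.Nodes Cfsg.Agent.Nodes.BNOf Cfsg.Agent.Nodes.RGDFold Cfsg.Agent.Nodes.RGDChev
open Cfsg.Agent.Nodes.RGDFoldSL (Fx mem_Fx Phi Phi_wS Phi_hS Phi_up_injective mem_X_iff wS hS)

universe u

/-! ### `²E₆(q)` -/

section E6

open Cfsg.Agent.Nodes.RGDTwNode.E6

variable {K : Type u} [Field K] [Fintype K] {q : ℕ} {φ : K →+* K}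

theorem nd_E6 {W : Type*} [Group W] (cs : CoxeterSystem CoxeterMatrix.F₄ W) (hφ : ∀ x, φ x = x ^ q)
    (hqq : ∀ t : K, (t ^ q) ^ q = t) (i : Fin 4) :
    H619.Gow.Nd cs RGDTwE6.isCartan (RGDTwE6.T K q) (RGDTwE6.nn hφ) (RGDTwE6.X φ q) i
      (H934.PQR.TorTwE6.Ps hφ hqq i) where
  mem_X g := mem_X_iff (RGDTwE6.foldGrp hφ hqq) (nodeOK i) (H934.PQR.TorTwE6.hf i) g
  w1 := Phi_wS (RGDTwE6.foldGrp hφ hqq) (nodeOK i) (H934.PQR.TorTwE6.hf i)
  h1 _ hd := Phi_hS (RGDTwE6.foldGrp hφ hqq) (nodeOK i) (H934.PQR.TorTwE6.hf i) hd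
  inj_up _ _ hab := Phi_up_injective (RGDTwE6.foldGrp hφ hqq) (nodeOK i) (H934.PQR.TorTwE6.hf i) hab

/-- the Coxeter matrix -/
def mF : Fin 4 → Fin 4 → ℕ := ![![1, 3, 2, 2], ![3, 1, 4, 2], ![2, 4, 1, 3], ![2, 2, 3, 1]]

theorem mF_eq (i j : Fin 4) : CoxeterMatrix.F₄ i j = mF i j := by
  fin_cases i <;> fin_cases j <;> rfl

/-- the symmetries of the diagram -/
theorem f4_sym (σ : Equiv.Perm (Fin 4)) (hσ : ∀ j k, CoxeterMatrix.F₄ (σ j) (σ k) = CoxeterMatrix.F₄ j k) :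
    σ 0 = 0 ∨ σ 0 = 3 := by
  simp only [mF_eq] at hσ
  have key' : ∀ a b c d : Fin 4, mF a b = mF 0 1 → mF b c = mF 1 2 → mF c d = mF 2 3 → a = 0 ∨ a = 3 := by
    decide +kernel
  exact key' _ _ _ _ (hσ 0 1) (hσ 1 2) (hσ 2 3)

/-- **`²E₆(q)`, `q` even** -/
theorem row2_twE6 (K : Type u) [Field K] [Fintype K] [CharP K 2] {q : ℕ} (hq : IsPrimePow q)
    (hK : Fintype.card K = q ^ 2) : Row2 ↥(twistedE6 K q) := by
  have : Fact (Nat.Prime 2) := ⟨Nat.prime_two⟩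
  obtain ⟨φ, hφ, hqq⟩ := TwE6Basic.exists_frob hq hK
  obtain ⟨hs, hna⟩ := S1070.result (K := K) hq hK
  have hcen : Subgroup.center ↥(twistedE6 K q) = ⊥ := center_eq_bot hs hna
  have : Finite CoxeterMatrix.F₄.Group :=
    finite_W (hp := RGDTwE6.hp) CoxeterMatrix.F₄.toCoxeterSystem RGDTwE6.isCartan RGDTwE6.foldData
  obtain ⟨f, hf⟩ := anti_E6 CoxeterMatrix.F₄.toCoxeterSystem hφ hqq 2 hcen
  have c0 : CharP (Fx φ ((rest 0).length + 1)) 2 :=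
    (RingHom.charP_iff _ (Fx φ ((rest 0).length + 1)).subtype.injective 2).2 inferInstance
  refine row2_data (data_E6 CoxeterMatrix.F₄.toCoxeterSystem hφ hqq 2 hcen)
    (H396.CommTab.commGen_E6 _ hφ hqq (p := 2) (Omega.EH3.Kf.TwE6.exists_ne hφ hK hq.one_lt)) hf
    (nd_E6 CoxeterMatrix.F₄.toCoxeterSystem hφ hqq 0) (fun σ h1 h2 => ?_)
  rcases f4_sym σ h1 with h3 | h3
  · exact h3
  · exfalso
    have h4 := h2 0
    rw [h3, card_nd (nd_E6 CoxeterMatrix.F₄.toCoxeterSystem hφ hqq 3),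
      card_nd (nd_E6 CoxeterMatrix.F₄.toCoxeterSystem hφ hqq 0)] at h4
    have h5 : Nat.card (Fx φ 2) = Nat.card K := card_fx_top fun t => by
      show φ (φ t) = t
      rw [hφ, hφ, hqq]
    have h6 : Nat.card (Fx φ 1) ≤ q := card_fx hφ hq.one_lt
    have h7 : Nat.card (Fx φ 2) = Nat.card (Fx φ 1) := h4
    rw [h5, Nat.card_eq_fintype_card, hK] at h7
    have h8 := hq.one_lt
    nlinarith

end E6

/-! ### `³D₄(q)` -/

section D4

open Cfsg.Agent.Nodes.RGDTwNode.D4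

theorem g2_sym (σ : Equiv.Perm (Fin 2)) : σ 0 = 0 ∨ σ 0 = 1 := by
  generalize σ 0 = a
  revert a
  decide

/-- **`³D₄(q)`, `q` even** -/
theorem row2_twD4 (K : Type u) [Field K] [Fintype K] [CharP K 2] {q : ℕ} (hq : IsPrimePow q)
    (hK : Fintype.card K = q ^ 3) : Row2 ↥(twistedD4 K q) := by
  have : Fact (Nat.Prime 2) := ⟨Nat.prime_two⟩
  obtain ⟨φ, hφ⟩ := D4Fixed.exists_frob hq hK
  have hle := D4Fixed.twisted_le_fix hK hφ
  obtain ⟨hs, hna⟩ := S1071.result (K := K) hq hK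
  have hcen : Subgroup.center ↥(twistedD4 K q) = ⊥ := center_eq_bot hs hna
  have : Finite CoxeterMatrix.G₂.Group :=
    finite_W (hp := RGDTwD4.hp) CoxeterMatrix.G₂.toCoxeterSystem RGDTwD4.isCartan RGDTwD4.foldData
  obtain ⟨f, hf⟩ := anti_D4 CoxeterMatrix.G₂.toCoxeterSystem hK hφ 2 hcen
  have c0 : CharP (Fx φ (H619.Gow.ln 0)) 2 :=
    (RingHom.charP_iff _ (Fx φ (H619.Gow.ln 0)).subtype.injective 2).2 inferInstance
  refine row2_data (data_D4 CoxeterMatrix.G₂.toCoxeterSystem hK hφ 2 hcen)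
    (H396.CommTab.commGen_D4 hK hφ) hf
    (H619.Gow.nd_tw hφ hle CoxeterMatrix.G₂.toCoxeterSystem 0) (fun σ h1 h2 => ?_)
  rcases g2_sym σ with h3 | h3
  · exact h3
  · exfalso
    have h4 := h2 0
    rw [h3, card_nd (H619.Gow.nd_tw hφ hle CoxeterMatrix.G₂.toCoxeterSystem 1),
      card_nd (H619.Gow.nd_tw hφ hle CoxeterMatrix.G₂.toCoxeterSystem 0)] at h4
    have h5 : Nat.card (Fx φ 3) = Nat.card K := card_fx_top fun t => H619.Gow.mem_Fx3 hK hφ t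
    have h6 : Nat.card (Fx φ 1) ≤ q := card_fx hφ hq.one_lt
    have h7 : Nat.card (Fx φ 3) = Nat.card (Fx φ 1) := h4
    rw [h5, Nat.card_eq_fintype_card, hK] at h7
    have h8 := hq.one_lt
    have h9 : q * (q * q) ≤ q := by
      have : q * (q * q) = q ^ 3 := by ring
      rw [this, h7]
      exact h6
    nlinarith

end D4

/-! ### the slots -/

theorem slot_te6 : RowFor2 (fun X _ => ∃ (F : Type) (_ : Field F) (_ : Fintype F) (_ : CharP F 2) (q : ℕ), IsPrimePow q ∧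
    Fintype.card F = q ^ 2 ∧ Nonempty (X ≃* Lie.twistedE6 F q)) := by
  intro X _ _ _ _ h
  obtain ⟨F, _, _, _, q, hq, hF, ⟨e⟩⟩ := h
  exact Row2.congr e (row2_twE6 F hq hF)

theorem slot_td4 : RowFor2 (fun X _ => ∃ (F : Type) (_ : Field F) (_ : Fintype F) (_ : CharP F 2) (q : ℕ), IsPrimePow q ∧
    Fintype.card F = q ^ 3 ∧ Nonempty (X ≃* Lie.twistedD4 F q)) := by
  intro X _ _ _ _ h
  obtain ⟨F, _, _, _, q, hq, hF, ⟨e⟩⟩ := h
  exact Row2.congr e (row2_twD4 F hq hF)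

end Cfsg.Agent.H61.R2
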